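/-
helper46: project S2318 (helper82), Chevalley-side module [C-HCOMM]: the diagonal subgroup `H` is commutative
(its elements are diagonal matrices, `Cfsg.Agent.S1034.mem_diagonalSubgroup_torus`).
-/
import Cfsg.Agent.Lib.Helper18.Bruhat1
import Cfsg.Agent.S1034
import Mathlib

set_option autoImplicit false

namespace Cfsg.Agent.Lib.Helper46.StChev

open Cfsg Cfsg.Lie Cfsg.Agent.Lib.Helper18

universe u
variable {F : Type u} [Field F] {D : ChevalleyDatum}

theorem diagonal_comm (hD : D ∈ [chevG2, chevB2, chevD4, chevF4, chevE6, chevE7, chevE8])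
    (h h' : GL D.Idx F) (hh : h ∈ D.diagonalSubgroup F) (hh' : h' ∈ D.diagonalSubgroup F) :
    h * h' = h' * h := by
  classical
  obtain ⟨c, -, hc⟩ := Cfsg.Agent.S1034.mem_diagonalSubgroup_torus D hD h hh
  obtain ⟨c', -, hc'⟩ := Cfsg.Agent.S1034.mem_diagonalSubgroup_torus D hD h' hh'
  apply Units.ext
  rw [Units.val_mul, Units.val_mul, hc, hc', Matrix.diagonal_mul_diagonal, Matrix.diagonal_mul_diagonal]
  congr 1
  funext j
  exact mul_comm _ _

end Cfsg.Agent.Lib.Helper46.StChev
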