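/-
helper46: project S2318 (helper82), Chevalley-side module [C-PB]:
for `u ∈ U` and `n_i = n_{p_i}(1)`, if `n_i⁻¹ u n_i ∈ B` then `n_i⁻¹ u n_i ∈ U`.
-/
import Cfsg.Agent.Lib.Helper18.Bruhat1
import Cfsg.Agent.Lib.Helper18.Borel
import Cfsg.Agent.S1045
import Mathlib

set_option autoImplicit false

namespace Cfsg.Agent.Lib.Helper46.StChev

open Cfsg Cfsg.Lie Cfsg.Agent.Lib.Helper18

universe u
variable {F : Type u} [Field F] {D : ChevalleyDatum}

/-- Any `n` with matrix `n_{p_i}(1)` is helper18's `sG`. -/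
theorem h46_eq_sG (hD : D ∈ [chevG2, chevB2, chevD4, chevF4, chevE6, chevE7, chevE8]) (C : ChevData.{u} D)
    (i : ℕ) (hi : i < D.rank) (n : GL D.Idx F)
    (hn : (n : Matrix D.Idx D.Idx F) = D.nMat F (D.simple i) 1) : n = sG hD C i := by
  apply Units.ext
  rw [hn, coe_sG hD C i hi]

/-- `n_i⁻¹ x_{p_i}(t) n_i` is a root element of the negative root `-p_i`, with parameter `± t`. -/
theorem h46_sG_inv_conj_xG_simple (hD : D ∈ [chevG2, chevB2, chevD4, chevF4, chevE6, chevE7, chevE8])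
    (C : ChevData.{u} D) (i : ℕ) (hi : i < D.rank) (t : F) :
    (sG hD C i)⁻¹ * xG hD (D.simple i) t * sG hD C i
      = xG hD (C.T.neg (D.simple i)) ((C.eta i (C.T.neg (D.simple i)) : F) * t) := by
  rw [sG_of_lt hD C i hi, nG_inv_conj_xG hD C i _ hi (C.simple_lt i hi), w_simple C i hi]

theorem conj_mem_posUnipotent_of_mem_borel
    (hD : D ∈ [chevG2, chevB2, chevD4, chevF4, chevE6, chevE7, chevE8])
    (i : ℕ) (hi : i < D.rank) (n : GL D.Idx F)
    (hn : (n : Matrix D.Idx D.Idx F) = D.nMat F (D.simple i) 1)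
    (u : GL D.Idx F) (hu : u ∈ D.posUnipotent F) (h : n⁻¹ * u * n ∈ D.borelSubgroup F) :
    n⁻¹ * u * n ∈ D.posUnipotent F := by
  obtain ⟨C⟩ := nonempty_chevData.{u} D hD
  have hnC := h46_eq_sG hD C i hi n hn
  subst hnC
  obtain ⟨u', hu', t, rfl⟩ := exists_Up_mul_xG hD C i hi u hu
  have hnr := C.nroots_eq
  have hev := C.heven
  have hp := C.simple_lt i hi
  have hpge := C.half_le_simple i hi
  have e : (sG hD C i)⁻¹ * (u' * xG hD (D.simple i) t) * sG hD C i
      = ((sG hD C i)⁻¹ * u' * sG hD C i) * ((sG hD C i)⁻¹ * xG hD (D.simple i) t * sG hD C i) := by group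
  have h1 : (sG hD C i)⁻¹ * u' * sG hD C i ∈ D.posUnipotent F :=
    Up_le_posUnipotent D i (sG_conj_mem_Up hD C i hi u' hu').2
  rw [e] at h ⊢
  have h2 : (sG hD C i)⁻¹ * xG hD (D.simple i) t * sG hD C i ∈ D.borelSubgroup F := by
    have := mul_mem (inv_mem (borel_of_posUnipotent _ h1)) h
    rwa [inv_mul_cancel_left] at this
  rw [h46_sG_inv_conj_xG_simple hD C i hi t] at h2 ⊢
  by_cases ht : ((C.eta i (C.T.neg (D.simple i)) : F) * t) = 0
  · rw [ht, xG_zero, mul_one]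
    exact h1
  · exfalso
    refine xG_neg_not_mem_borel hD _ ?_ ?_ _ ht h2
    · unfold FastDatum.neg; omega
    · unfold FastDatum.neg; omega

end Cfsg.Agent.Lib.Helper46.StChev
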