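/-
helper46: project S2318 (helper82), Chevalley-side module [C-HGEN]:
the diagonal subgroup `H` is generated by its intersections with the rank one groups `⟨X_{p_i}, n_i X_{p_i} n_i⁻¹⟩`
(every element of `H` is a product of the `h_{p_i}(c_i)`, S1034).
-/
import Cfsg.Agent.Lib.Helper46.StChev.PB
import Cfsg.Agent.S1034

set_option autoImplicit false

namespace Cfsg.Agent.Lib.Helper46.StChev

open Cfsg Cfsg.Lie Cfsg.Agent.Lib.Helper18

universe u
variable {F : Type u} [Field F] {D : ChevalleyDatum}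

/-- The root elements of `-p_i` lie in `n_i X_{p_i} n_i⁻¹`. -/
theorem h46_xG_neg_mem_map (hD : D ∈ [chevG2, chevB2, chevD4, chevF4, chevE6, chevE7, chevE8])
    (C : ChevData.{u} D) (i : ℕ) (hi : i < D.rank) (s : F) :
    xG hD (D.neg (D.simple i)) s ∈
      (D.rootSubgroup F (D.simple i)).map (MulAut.conj (sG hD C i)).toMonoidHom := by
  have hp := C.simple_lt i hi
  rw [Subgroup.mem_map]
  refine ⟨xG hD (D.simple i) ((C.eta i (D.simple i) : F) * s), (mem_rootSubgroup_iff hD _ _).mpr ⟨_, rfl⟩, ?_⟩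
  rw [MulEquiv.coe_toMonoidHom, MulAut.conj_apply, sG_of_lt hD C i hi, nG_conj_xG hD C i _ hi hp, w_simple C i hi,
    ← C.neg_eq _ hp, ← mul_assoc, C.eta_mul_self, one_mul]

/-- The element `h_{p_i}(c)`, as a word in root elements, lies in the rank one group. -/
theorem h46_wordG_hWord_mem (hD : D ∈ [chevG2, chevB2, chevD4, chevF4, chevE6, chevE7, chevE8])
    (C : ChevData.{u} D) (i : ℕ) (hi : i < D.rank) (c : F) :
    wordG hD (D.hWord (D.simple i) c) ∈ D.rootSubgroup F (D.simple i) ⊔
      (D.rootSubgroup F (D.simple i)).map (MulAut.conj (sG hD C i)).toMonoidHom := by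
  have h1 : ∀ t : F, xG hD (D.simple i) t ∈ D.rootSubgroup F (D.simple i) ⊔
      (D.rootSubgroup F (D.simple i)).map (MulAut.conj (sG hD C i)).toMonoidHom :=
    fun t => Subgroup.mem_sup_left ((mem_rootSubgroup_iff hD _ _).mpr ⟨t, rfl⟩)
  have h2 : ∀ t : F, xG hD (D.neg (D.simple i)) t ∈ D.rootSubgroup F (D.simple i) ⊔
      (D.rootSubgroup F (D.simple i)).map (MulAut.conj (sG hD C i)).toMonoidHom :=
    fun t => Subgroup.mem_sup_right (h46_xG_neg_mem_map hD C i hi t)
  unfold ChevalleyDatum.hWord ChevalleyDatum.nWord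
  simp only [List.cons_append, List.nil_append, wordG_cons, wordG_nil, mul_one]
  exact mul_mem (h1 _) (mul_mem (h2 _) (mul_mem (h1 _) (mul_mem (h1 _) (mul_mem (h2 _) (h1 _)))))

/-- The element `h_{p_i}(c)`, `c ≠ 0`, as a word in root elements, lies in `H`. -/
theorem h46_wordG_hWord_mem_diagonal (hD : D ∈ [chevG2, chevB2, chevD4, chevF4, chevE6, chevE7, chevE8])
    (r : ℕ) (hr : r < D.nroots) (c : F) (hc : c ≠ 0) :
    wordG hD (D.hWord r c) ∈ D.diagonalSubgroup F := by
  apply Subgroup.subset_closure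
  refine ⟨r, c, hr, hc, ?_⟩
  rw [coe_wordG]
  rfl

theorem diagonal_le_iSup (hD : D ∈ [chevG2, chevB2, chevD4, chevF4, chevE6, chevE7, chevE8])
    (ns : ℕ → GL D.Idx F)
    (hns : ∀ i < D.rank, ((ns i : GL D.Idx F) : Matrix D.Idx D.Idx F) = D.nMat F (D.simple i) 1) :
    D.diagonalSubgroup F ≤ ⨆ i ∈ Finset.range D.rank, D.diagonalSubgroup F ⊓
      (D.rootSubgroup F (D.simple i) ⊔
        (D.rootSubgroup F (D.simple i)).map (MulAut.conj (ns i)).toMonoidHom) := by
  obtain ⟨C⟩ := nonempty_chevData.{u} D hD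
  intro g hg
  obtain ⟨c, hc, hgc⟩ := Cfsg.Agent.S1034.result D hD g hg
  have hgw : g = wordG hD ((List.range D.rank).flatMap fun i => D.hWord (D.simple i) (c i)) := by
    apply Units.ext
    rw [hgc, coe_wordG]
  rw [hgw]
  -- induction over the list of indices
  have key : ∀ l : List ℕ, (∀ i ∈ l, i < D.rank) →
      wordG hD (l.flatMap fun i => D.hWord (D.simple i) (c i)) ∈
        ⨆ i ∈ Finset.range D.rank, D.diagonalSubgroup F ⊓
          (D.rootSubgroup F (D.simple i) ⊔
            (D.rootSubgroup F (D.simple i)).map (MulAut.conj (ns i)).toMonoidHom) := by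
    intro l
    induction l with
    | nil =>
      intro _
      rw [List.flatMap_nil, wordG_nil]
      exact one_mem _
    | cons i l ih =>
      intro hl
      have hi : i < D.rank := hl i List.mem_cons_self
      rw [List.flatMap_cons, wordG_append]
      refine mul_mem ?_ (ih fun j hj => hl j (List.mem_cons_of_mem _ hj))
      have hmem : wordG hD (D.hWord (D.simple i) (c i)) ∈ D.diagonalSubgroup F ⊓
          (D.rootSubgroup F (D.simple i) ⊔
            (D.rootSubgroup F (D.simple i)).map (MulAut.conj (ns i)).toMonoidHom) := by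
        rw [h46_eq_sG hD C i hi (ns i) (hns i hi)]
        exact ⟨h46_wordG_hWord_mem_diagonal hD _ (C.simple_lt i hi) _ (hc i hi), h46_wordG_hWord_mem hD C i hi _⟩
      exact (le_iSup₂ (f := fun j (_ : j ∈ Finset.range D.rank) => D.diagonalSubgroup F ⊓
          (D.rootSubgroup F (D.simple j) ⊔
            (D.rootSubgroup F (D.simple j)).map (MulAut.conj (ns j)).toMonoidHom)) i (Finset.mem_range.2 hi)) hmem
  exact key _ fun i hi => List.mem_range.1 hi

end Cfsg.Agent.Lib.Helper46.StChev
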