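/-
helper46: project S2318 (helper82), Chevalley-side module [C-PCOV]:
the minimal parabolic subgroup `P_i = B ∪ B n_i X_{p_i}`, and `n_i ∉ B`.
-/
import Cfsg.Agent.Lib.Helper46.StChev.PB
import Cfsg.Agent.S1044

set_option autoImplicit false

namespace Cfsg.Agent.Lib.Helper46.StChev

open Cfsg Cfsg.Lie Cfsg.Agent.Lib.Helper18

universe u
variable {F : Type u} [Field F] {D : ChevalleyDatum}

/-- `n_i b = b' n_i x_{p_i}(t)` for `b ∈ B`. -/
theorem h46_sG_mul_borel (hD : D ∈ [chevG2, chevB2, chevD4, chevF4, chevE6, chevE7, chevE8]) (C : ChevData.{u} D)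
    (i : ℕ) (hi : i < D.rank) (b : GL D.Idx F) (hb : b ∈ D.borelSubgroup F) :
    ∃ b' ∈ D.borelSubgroup F, ∃ t : F, sG hD C i * b = b' * sG hD C i * xG hD (D.simple i) t := by
  obtain ⟨u, hu, h, hh, rfl⟩ := (mem_borel_iff D hD b).mp hb
  -- `u h = h (h⁻¹ u h)`
  have hnorm := (Cfsg.Agent.S1036.result (F := F) D hD).1 (inv_mem hh)
  have hu2 : h⁻¹ * u * h ∈ D.posUnipotent F := by
    have := (Subgroup.mem_normalizer_iff.mp hnorm u).mp hu
    rwa [inv_inv] at this
  obtain ⟨u', hu', t, hut⟩ := exists_Up_mul_xG hD C i hi _ hu2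
  refine ⟨(sG hD C i * h * (sG hD C i)⁻¹) * (sG hD C i * u' * (sG hD C i)⁻¹), ?_, t, ?_⟩
  · exact mul_mem (borel_of_diagonal _ (sG_conj_H hD C i h hh))
      (borel_of_posUnipotent _ (Up_le_posUnipotent D i (sG_conj_mem_Up hD C i hi u' hu').1))
  · have e : u * h = h * (h⁻¹ * u * h) := by group
    rw [e, hut]
    group

theorem parabolic_cover (hD : D ∈ [chevG2, chevB2, chevD4, chevF4, chevE6, chevE7, chevE8])
    (i : ℕ) (hi : i < D.rank) (n : GL D.Idx F)
    (hn : (n : Matrix D.Idx D.Idx F) = D.nMat F (D.simple i) 1)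
    (g : GL D.Idx F) (hg : g ∈ D.parabolicSubgroup F {i}) :
    g ∈ D.borelSubgroup F ∨
      ∃ b ∈ D.borelSubgroup F, ∃ t : F, g = b * n * xG hD (D.simple i) t := by
  obtain ⟨C⟩ := nonempty_chevData.{u} D hD
  have hnC := h46_eq_sG hD C i hi n hn
  obtain ⟨P, hP⟩ := Cfsg.Agent.S1044.result (F := F) D hD i hi n hn
  have hBP : D.borelSubgroup F ≤ P := by
    intro x hx
    have : x ∈ (P : Set (GL D.Idx F)) := by
      rw [hP]
      exact Or.inl hx
    exact this
  have hnP : n ∈ P := by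
    have : n ∈ (P : Set (GL D.Idx F)) := by
      rw [hP]
      right
      rw [DoubleCoset.mem_doubleCoset]
      exact ⟨1, one_mem _, 1, one_mem _, by group⟩
    exact this
  have hle : D.parabolicSubgroup F {i} ≤ P := by
    unfold ChevalleyDatum.parabolicSubgroup
    apply sup_le hBP
    rw [Subgroup.closure_le]
    rintro x ⟨j, hj, -, hx⟩
    rw [Set.mem_singleton_iff] at hj
    subst hj
    have : x = n := Units.ext (hx.trans hn.symm)
    rw [this]
    exact hnP
  have hgP : g ∈ (P : Set (GL D.Idx F)) := hle hg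
  rw [hP] at hgP
  rcases hgP with hgB | hgD
  · exact Or.inl hgB
  · right
    rw [DoubleCoset.mem_doubleCoset] at hgD
    obtain ⟨b₁, hb₁, b₂, hb₂, rfl⟩ := hgD
    subst hnC
    obtain ⟨b', hb', t, e⟩ := h46_sG_mul_borel hD C i hi b₂ hb₂
    refine ⟨b₁ * b', mul_mem hb₁ hb', t, ?_⟩
    rw [mul_assoc b₁, e]
    group

theorem nMat_not_mem_borel (hD : D ∈ [chevG2, chevB2, chevD4, chevF4, chevE6, chevE7, chevE8])
    (i : ℕ) (hi : i < D.rank) (n : GL D.Idx F)
    (hn : (n : Matrix D.Idx D.Idx F) = D.nMat F (D.simple i) 1) : n ∉ D.borelSubgroup F := by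
  obtain ⟨C⟩ := nonempty_chevData.{u} D hD
  have hnC := h46_eq_sG hD C i hi n hn
  subst hnC
  intro hmem
  have hnr := C.nroots_eq
  have hev := C.heven
  have hp := C.simple_lt i hi
  have hpge := C.half_le_simple i hi
  have hx : xG hD (D.simple i) (1 : F) ∈ D.borelSubgroup F :=
    borel_of_posUnipotent _ (xG_mem_posUnipotent hD _ _ ((isPosRoot_iff hD _).mpr ⟨hp, hpge⟩))
  have h1 : sG hD C i * xG hD (D.simple i) (1 : F) * (sG hD C i)⁻¹ ∈ D.borelSubgroup F :=
    mul_mem (mul_mem hmem hx) (inv_mem hmem)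
  rw [sG_conj_xG_simple hD C i hi] at h1
  refine xG_neg_not_mem_borel hD _ ?_ ?_ _ ?_ h1
  · unfold FastDatum.neg; omega
  · unfold FastDatum.neg; omega
  · exact mul_ne_zero (C.eta_ne_zero i _) one_ne_zero

end Cfsg.Agent.Lib.Helper46.StChev
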