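/-
helper46: project S2318 (helper82), Chevalley-side module [C-MP]:
`V ∩ P_i = X_{-p_i} = n_i X_{p_i} n_i⁻¹` (for `v ∈ P_i` with `n₀⁻¹ v n₀ ∈ U`, `n₀` a representative of the longest
element).
-/
import Cfsg.Agent.Lib.Helper46.StChev.PCov
import Cfsg.Agent.S1037

set_option autoImplicit false

namespace Cfsg.Agent.Lib.Helper46.StChev

open Cfsg Cfsg.Lie Cfsg.Agent.Lib.Helper18

universe u
variable {F : Type u} [Field F] {D : ChevalleyDatum}

/-- `x_{-p_i}(s) = n_i x_{p_i}(± s) n_i⁻¹`. -/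
theorem h46_xG_neg_eq_conj (hD : D ∈ [chevG2, chevB2, chevD4, chevF4, chevE6, chevE7, chevE8])
    (C : ChevData.{u} D) (i : ℕ) (hi : i < D.rank) (s : F) :
    xG hD (D.neg (D.simple i)) s =
      sG hD C i * xG hD (D.simple i) ((C.eta i (D.simple i) : F) * s) * (sG hD C i)⁻¹ := by
  have hp := C.simple_lt i hi
  rw [sG_of_lt hD C i hi, nG_conj_xG hD C i _ hi hp, w_simple C i hi, ← C.neg_eq _ hp, ← mul_assoc,
    C.eta_mul_self, one_mul]

/-- `N` normalises `H`. -/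
theorem h46_monomial_conj_H (hD : D ∈ [chevG2, chevB2, chevD4, chevF4, chevE6, chevE7, chevE8])
    (C : ChevData.{u} D) (n : GL D.Idx F) (hn : n ∈ D.monomialSubgroup F) (h : GL D.Idx F)
    (hh : h ∈ D.diagonalSubgroup F) : n * h * n⁻¹ ∈ D.diagonalSubgroup F := by
  obtain ⟨ws, h₀, hws, hh₀, hnw⟩ := isWordH_of_mem_monomial hD C _ hn
  have e : n * h * n⁻¹ = nW hD C ws * (h₀ * h * h₀⁻¹) * (nW hD C ws)⁻¹ := by
    rw [hnw]; group
  rw [e]
  exact nW_conj_H hD C ws _ (mul_mem (mul_mem hh₀ hh) (inv_mem hh₀))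

/-- If `n₀ U n₀⁻¹ = V` then `U` is the group `U_{n₀}^-` of the Bruhat normal form. -/
theorem h46_posUnipotent_le_closure_UnegSet (n₀ : GL D.Idx F)
    (hn₀ : (D.posUnipotent F).map (MulAut.conj n₀).toMonoidHom = D.negUnipotent F) :
    D.posUnipotent F ≤ Subgroup.closure (UnegSet D F n₀) := by
  unfold ChevalleyDatum.posUnipotent
  apply Subgroup.closure_mono
  rintro g ⟨r, t, hr, hg⟩
  refine ⟨r, t, hr, ?_, hg⟩
  rw [← hn₀]
  apply Subgroup.map_mono
  unfold ChevalleyDatum.rootSubgroup ChevalleyDatum.posUnipotent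
  apply Subgroup.closure_mono
  rintro x ⟨t', hx⟩
  exact ⟨r, t', hr, hx⟩

/-- [C-MP].  The hypothesis `hn₀` is the unfolded `IsLongestRep D F n₀` of helper82's `CHEV_STUBS` / `ChevDefs`. -/
theorem eq_conj_of_longest_conj_mem (hD : D ∈ [chevG2, chevB2, chevD4, chevF4, chevE6, chevE7, chevE8])
    (n₀ : GL D.Idx F)
    (hn₀ : n₀ ∈ D.monomialSubgroup F ∧
      (D.posUnipotent F).map (MulAut.conj n₀).toMonoidHom = D.negUnipotent F)
    (i : ℕ) (hi : i < D.rank) (n : GL D.Idx F)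
    (hn : (n : Matrix D.Idx D.Idx F) = D.nMat F (D.simple i) 1)
    (v : GL D.Idx F) (hv : v ∈ D.parabolicSubgroup F {i})
    (h : n₀⁻¹ * v * n₀ ∈ D.posUnipotent F) :
    ∃ t : F, v = n * xG hD (D.simple i) t * n⁻¹ := by
  obtain ⟨C⟩ := nonempty_chevData.{u} D hD
  have hnC := h46_eq_sG hD C i hi n hn
  have hnr := C.nroots_eq
  have hev := C.heven
  have hp := C.simple_lt i hi
  have hpge := C.half_le_simple i hi
  have hBV : D.borelSubgroup F ⊓ D.negUnipotent F = ⊥ := (Cfsg.Agent.S1037.result D hD).1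
  -- `v ∈ V`
  have hvV : v ∈ D.negUnipotent F := by
    rw [← hn₀.2]
    refine ⟨n₀⁻¹ * v * n₀, h, ?_⟩
    rw [MulEquiv.coe_toMonoidHom, MulAut.conj_apply]
    group
  rcases parabolic_cover hD i hi n hn v hv with hvB | ⟨b, hb, t, hvb⟩
  · -- `v ∈ B ∩ V = 1`
    have h1 : v ∈ D.borelSubgroup F ⊓ D.negUnipotent F := Subgroup.mem_inf.mpr ⟨hvB, hvV⟩
    rw [hBV, Subgroup.mem_bot] at h1
    refine ⟨0, ?_⟩
    rw [h1, xG_zero]
    group
  · by_cases ht : t = 0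
    · -- `v = b n ∈ V` is impossible
      exfalso
      rw [ht, xG_zero, mul_one] at hvb
      have hnN : n ∈ D.monomialSubgroup F := by rw [hnC]; exact sG_mem_monomial hD C i
      have hu₀ : n₀⁻¹ * v * n₀ ∈ Subgroup.closure (UnegSet D F n₀) :=
        h46_posUnipotent_le_closure_UnegSet n₀ hn₀.2 h
      have heq : b * (n * n₀) * 1 = 1 * n₀ * (n₀⁻¹ * v * n₀) := by
        rw [hvb]; group
      have huniq := (bruhat_form_unique hD C b 1 (n * n₀) n₀ 1 (n₀⁻¹ * v * n₀) hb (one_mem _)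
        (mul_mem hnN hn₀.1) hn₀.1 (one_mem _) hu₀ heq).1
      -- `n₀⁻¹ n⁻¹ n₀ ∈ H`, so `n⁻¹ ∈ H`
      have h2 := h46_monomial_conj_H hD C n₀ hn₀.1 _ huniq
      have e : n₀ * ((n * n₀)⁻¹ * n₀) * n₀⁻¹ = n⁻¹ := by group
      rw [e] at h2
      have h3 : n ∈ D.borelSubgroup F := by
        have := borel_of_diagonal _ (inv_mem h2)
        rwa [inv_inv] at this
      exact nMat_not_mem_borel hD i hi n hn h3
    · -- `n x_p(t) = hh⁻¹ x_p(t)⁻¹ x_{-p}(t⁻¹)`
      obtain ⟨hh, hhh, hrank1⟩ := exists_xG_neg_eq hD (D.simple i) hp t⁻¹ (inv_ne_zero ht)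
      rw [inv_inv, ← sG_of_lt hD C i hi, ← hnC] at hrank1
      have hxV : xG hD (D.neg (D.simple i)) t⁻¹ ∈ D.negUnipotent F := by
        apply Subgroup.subset_closure
        refine ⟨_, _, isNegRoot_of_lt D (signOK_of_mem D hD) _ ?_ ?_, rfl⟩
        · rw [C.neg_eq _ hp]; unfold FastDatum.neg; omega
        · rw [C.neg_eq _ hp]; unfold FastDatum.neg; omega
      have hxB : xG hD (D.simple i) t ∈ D.borelSubgroup F :=
        borel_of_posUnipotent _ (xG_mem_posUnipotent hD _ _ ((isPosRoot_iff hD _).mpr ⟨hp, hpge⟩))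
      have hv2 : v = (b * hh⁻¹ * (xG hD (D.simple i) t)⁻¹) * xG hD (D.neg (D.simple i)) t⁻¹ := by
        rw [hvb, hrank1]; group
      have hb' : b * hh⁻¹ * (xG hD (D.simple i) t)⁻¹ ∈ D.borelSubgroup F ⊓ D.negUnipotent F := by
        refine Subgroup.mem_inf.mpr ⟨mul_mem (mul_mem hb (borel_of_diagonal _ (inv_mem hhh))) (inv_mem hxB), ?_⟩
        have e : b * hh⁻¹ * (xG hD (D.simple i) t)⁻¹ = v * (xG hD (D.neg (D.simple i)) t⁻¹)⁻¹ := by
          rw [hv2]; group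
        rw [e]
        exact mul_mem hvV (inv_mem hxV)
      rw [hBV, Subgroup.mem_bot] at hb'
      rw [hb', one_mul] at hv2
      refine ⟨(C.eta i (D.simple i) : F) * t⁻¹, ?_⟩
      rw [hv2, hnC]
      exact h46_xG_neg_eq_conj hD C i hi t⁻¹

end Cfsg.Agent.Lib.Helper46.StChev
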